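import Groth.Agent.H18Subint.Iso
import Groth.Prelude.Def_SymTen
import Groth.Prelude.Def_Flat
import Mathlib

/-! Products of symmetric tensors in purely inseparable extensions and seminormal rings. -/

set_option autoImplicit false
universe u
open TensorProduct

namespace Groth.Agent.H7SymTen

/-- In a purely inseparable extension every `d`-th power lies in the ground field when the degree divides `d`,
and so does every coefficient of the `d`-th power of a linear form. -/
theorem coeff_pow_mem {E L : Type u} [Field E] [Field L] [Algebra E L] [IsPurelyInseparable E L]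
    [FiniteDimensional E L] {d : ℕ} (hd : Module.finrank E L ∣ d) {ι : Type*} [Fintype ι] (b : ι → L)
    (a : ι →₀ ℕ) :
    MvPolynomial.coeff a ((∑ i, MvPolynomial.C (b i) * MvPolynomial.X i) ^ d) ∈ (algebraMap E L).range := by
  set q := ringExpChar E
  haveI : ExpChar E q := inferInstance
  haveI : ExpChar L q := expChar_of_injective_algebraMap (algebraMap E L).injective q
  haveI : ExpChar (MvPolynomial ι L) q :=
    expChar_of_injective_ringHom (f := (MvPolynomial.C : L →+* MvPolynomial ι L)) (MvPolynomial.C_injective _ _) q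
  obtain ⟨n, hn⟩ := IsPurelyInseparable.finrank_eq_pow E L q
  obtain ⟨e, rfl⟩ := hd
  have hx : ∀ x : L, x ^ q ^ n ∈ (algebraMap E L).range := by
    intro x
    obtain ⟨m, y, hy⟩ := IsPurelyInseparable.minpoly_eq_X_pow_sub_C E q x
    have h1 : x ^ q ^ m = algebraMap E L y := by
      have := minpoly.aeval E x
      rwa [hy, map_sub, map_pow, Polynomial.aeval_X, Polynomial.aeval_C, sub_eq_zero] at this
    have h2 : q ^ m ∣ q ^ n := by
      have := minpoly.degree_dvd (K := E) (x := x) (L := L) (IsIntegral.of_finite E x)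
      rwa [hy, Polynomial.natDegree_X_pow_sub_C, hn] at this
    obtain ⟨c, hc⟩ := h2
    exact ⟨y ^ c, by rw [hc, pow_mul, h1, map_pow]⟩
  have h : ((∑ i, MvPolynomial.C (b i) * MvPolynomial.X i) ^ (Module.finrank E L * e) : MvPolynomial ι L) ∈
      (MvPolynomial.map (σ := ι) (algebraMap E L)).range := by
    rw [pow_mul, hn, sum_pow_char_pow q n]
    refine pow_mem (sum_mem fun i _ => ?_) _
    rw [mul_pow, ← map_pow]
    obtain ⟨y, hy⟩ := hx (b i)
    exact ⟨MvPolynomial.C y * MvPolynomial.X i ^ q ^ n, by rw [map_mul, map_pow, MvPolynomial.map_C,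
      MvPolynomial.map_X, hy]⟩
  obtain ⟨P, hP⟩ := h
  exact ⟨P.coeff a, by rw [← hP, MvPolynomial.coeff_map]⟩

/-- The product map carries symmetric tensors into the ground field of a purely inseparable extension
whose degree divides the tensor degree. -/
theorem lift_mem_range {A B E L : Type u} [CommRing A] [CommRing B] [Algebra A B] [Field E] [Field L]
    [Algebra A E] [Algebra A L] [Algebra E L] [IsScalarTower A E L] [IsPurelyInseparable E L]
    [FiniteDimensional E L] {d : ℕ} (hd : Module.finrank E L ∣ d) (ψ : B →ₐ[A] L)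
    (x : ⨂[A] _ : Fin d, B) (hx : x ∈ SymTen.TS A B d) :
    ψ (PiTensorProduct.lift (MultilinearMap.mkPiAlgebra A (Fin d) B) x) ∈ (algebraMap E L).range := by
  classical
  let bs := Module.Free.chooseBasis E L
  let ι := Module.Free.ChooseBasisIndex E L
  let c : (Fin d → ι) → (⨂[A] _ : Fin d, B) →ₗ[A] E := fun f =>
    PiTensorProduct.lift ((MultilinearMap.mkPiAlgebra A (Fin d) E).compLinearMap
      fun j => ((bs.coord (f j)).restrictScalars A).comp ψ.toLinearMap)
  have hpure : ∀ (f : Fin d → ι) (v : Fin d → B),
      c f (PiTensorProduct.tprod A v) = ∏ j, bs.coord (f j) (ψ (v j)) := fun f v => by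
    simp [c]
  let M : (⨂[A] _ : Fin d, B) →ₗ[A] L :=
    ∑ f : Fin d → ι, ((LinearMap.toSpanSingleton E L (∏ j, bs (f j))).restrictScalars A).comp (c f)
  have hexp : ψ.toLinearMap.comp (PiTensorProduct.lift (MultilinearMap.mkPiAlgebra A (Fin d) B)) = M := by
    refine PiTensorProduct.ext (MultilinearMap.ext fun v => ?_)
    simp only [M, LinearMap.compMultilinearMap_apply, LinearMap.comp_apply, LinearMap.sum_apply,
      LinearMap.coe_restrictScalars, LinearMap.toSpanSingleton_apply, hpure, PiTensorProduct.lift.tprod,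
      MultilinearMap.mkPiAlgebra_apply, AlgHom.toLinearMap_apply, map_prod]
    calc ∏ j, ψ (v j) = ∏ j, ∑ i, algebraMap E L (bs.coord i (ψ (v j))) * bs i := by
          refine Finset.prod_congr rfl fun j _ => ?_
          conv_lhs => rw [← bs.sum_repr (ψ (v j))]
          simp only [Algebra.smul_def, Module.Basis.coord_apply]
      _ = ∑ f : Fin d → ι, ∏ j, algebraMap E L (bs.coord (f j) (ψ (v j))) * bs (f j) :=
          Fintype.prod_sum _
      _ = _ := Finset.sum_congr rfl fun f _ => by rw [Finset.prod_mul_distrib, Algebra.smul_def, ← map_prod]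
  have hsym : ∀ (f : Fin d → ι) (σ : Equiv.Perm (Fin d)), c (f ∘ σ) x = c f x := by
    intro f σ
    have hl : (c f).comp (PiTensorProduct.reindex A (fun _ : Fin d => B) σ).toLinearMap = c (f ∘ σ) := by
      refine PiTensorProduct.ext (MultilinearMap.ext fun v => ?_)
      simp only [LinearMap.compMultilinearMap_apply, LinearMap.comp_apply, LinearEquiv.coe_coe,
        PiTensorProduct.reindex_tprod, hpure, Function.comp_apply]
      exact (Fintype.prod_equiv σ _ _ fun j => by rw [σ.symm_apply_apply]).symm
    rw [← hl, LinearMap.comp_apply, LinearEquiv.coe_coe, hx σ]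
  show ψ.toLinearMap ((PiTensorProduct.lift (MultilinearMap.mkPiAlgebra A (Fin d) B)) x) ∈ _
  rw [← LinearMap.comp_apply, hexp]
  simp only [M, LinearMap.sum_apply, LinearMap.comp_apply, LinearMap.coe_restrictScalars,
    LinearMap.toSpanSingleton_apply]
  -- group by the number of occurrences of each basis vector
  let cnt : (Fin d → ι) → (ι →₀ ℕ) := fun f => ∑ j, Finsupp.single (f j) 1
  have hcnt : ∀ f i, cnt f i = Fintype.card {j // f j = i} := fun f i => by
    simp [cnt, Finsupp.single_apply, Fintype.card_subtype]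
  rw [← Finset.sum_fiberwise_of_maps_to (t := Finset.univ.image cnt) (g := cnt)
    (fun f _ => Finset.mem_image_of_mem _ (Finset.mem_univ f))]
  refine sum_mem fun a ha => ?_
  obtain ⟨f₀, -, hf₀⟩ := Finset.mem_image.mp ha
  have hconst : ∀ f ∈ Finset.univ.filter (fun f => cnt f = a), c f x = c f₀ x := by
    intro f hf
    rw [Finset.mem_filter] at hf
    let e : ∀ i, {j // f j = i} ≃ {j // f₀ j = i} := fun i =>
      Fintype.equivOfCardEq (by rw [← hcnt, ← hcnt, hf.2, hf₀])
    rw [← hsym f₀ (Equiv.ofFiberEquiv e)]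
    exact congrArg (fun g => c g x) (funext fun j => (Equiv.ofFiberEquiv_map e j).symm)
  rw [Finset.sum_congr rfl (fun f hf => by rw [hconst f hf]), ← Finset.smul_sum, Algebra.smul_def]
  refine mul_mem ⟨_, rfl⟩ ?_
  have hcoeff : MvPolynomial.coeff a ((∑ i, MvPolynomial.C (bs i) * MvPolynomial.X i) ^ d) =
      ∑ f ∈ Finset.univ.filter (fun f => cnt f = a), ∏ j, bs (f j) := by
    rw [Fintype.sum_pow, MvPolynomial.coeff_sum, Finset.sum_filter]
    refine Finset.sum_congr rfl fun f _ => ?_
    have : ∏ j, MvPolynomial.C (bs (f j)) * MvPolynomial.X (f j) =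
        MvPolynomial.monomial (cnt f) (∏ j, bs (f j)) := by
      rw [Finset.prod_mul_distrib, ← map_prod]
      have hX : ∏ j, (MvPolynomial.X (f j) : MvPolynomial ι L) = MvPolynomial.monomial (cnt f) 1 := by
        rw [MvPolynomial.monomial_sum_one]
        exact Finset.prod_congr rfl fun j _ => rfl
      rw [hX, MvPolynomial.C_mul_monomial, mul_one]
    rw [this, MvPolynomial.coeff_monomial]
  rw [← hcoeff]
  exact coeff_pow_mem hd _ a

theorem lift_mem_algHom_range {A C C' B : Type u} [CommRing A] [CommRing C] [CommRing C'] [CommRing B]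
    [Algebra A C] [Algebra A C'] [Algebra A B] (hC : HTop.IsSeminormalRing C)
    (g : C →ₐ[A] C') [IsReduced C'] (hfin : g.toRingHom.Finite)
    (hg : FlatMor.IsUnivHomeo (AlgebraicGeometry.Spec.map (CommRingCat.ofHom g.toRingHom)))
    (d : ℕ) (hd : 0 < d)
    (hdeg : ∀ q : PrimeSpectrum C',
      @Module.finrank (PrimeSpectrum.comap g.toRingHom q).asIdeal.ResidueField q.asIdeal.ResidueField _ _
          (Ideal.ResidueField.map (PrimeSpectrum.comap g.toRingHom q).asIdeal q.asIdeal g.toRingHom
            rfl).toAlgebra.toModule ∣ d)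
    (φ : B →ₐ[A] C') (x : ⨂[A] _ : Fin d, B) (hx : x ∈ SymTen.TS A B d) :
    φ (PiTensorProduct.lift (MultilinearMap.mkPiAlgebra A (Fin d) B) x) ∈ g.range := by
  classical
  letI : Algebra C C' := g.toRingHom.toAlgebra
  haveI : Module.Finite C C' := hfin
  haveI : Algebra.IsIntegral C C' := Algebra.IsIntegral.of_finite _ _
  have hgi : CategoryTheory.MorphismProperty.universally _ (AlgebraicGeometry.Spec.map (CommRingCat.ofHom (algebraMap C C'))) := hg
  haveI : AlgebraicGeometry.UniversallyInjective (AlgebraicGeometry.Spec.map (CommRingCat.ofHom (algebraMap C C'))) :=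
    ⟨fun _ _ _ _ _ h => (hgi _ _ _ h).injective⟩
  haveI : AlgebraicGeometry.Surjective (AlgebraicGeometry.Spec.map (CommRingCat.ofHom (algebraMap C C'))) :=
    ⟨(CategoryTheory.MorphismProperty.universally_le _ _ hgi).surjective⟩
  have hu : H17.UnivHomeoAlg.Uq C C' :=
    H17.UnivHomeoAlg.uq_of_universallyInjective inferInstance
  haveI : IsReduced C := H18Subint.isReduced_of_sn hC
  have hinj : Function.Injective (algebraMap C C') := by
    rw [injective_iff_map_eq_zero]
    intro z hz
    refine IsNilpotent.eq_zero (nilpotent_iff_mem_prime.mpr fun P hP => ?_)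
    obtain ⟨Q, hQ⟩ := (AlgebraicGeometry.Spec.map (CommRingCat.ofHom (algebraMap C C'))).surjective
      (⟨P, hP⟩ : PrimeSpectrum C)
    have : z ∈ (PrimeSpectrum.comap (algebraMap C C') Q).asIdeal := by
      rw [PrimeSpectrum.comap_asIdeal, Ideal.mem_comap, hz]; exact zero_mem _
    rw [show PrimeSpectrum.comap (algebraMap C C') Q = ⟨P, hP⟩ from hQ] at this
    exact this
  set c' := φ (PiTensorProduct.lift (MultilinearMap.mkPiAlgebra A (Fin d) B) x)
  -- the value at every point lies in the residue field of `C`
  have hval : ∀ q : PrimeSpectrum C', ∃ a s : C,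
      algebraMap C' q.asIdeal.ResidueField c' =
        algebraMap C' q.asIdeal.ResidueField (algebraMap C C' a) /
          algebraMap C' q.asIdeal.ResidueField (algebraMap C C' s) := by
    intro q
    let p := PrimeSpectrum.comap g.toRingHom q
    let E := p.asIdeal.ResidueField
    let L := q.asIdeal.ResidueField
    let κ : E →+* L := Ideal.ResidueField.map p.asIdeal q.asIdeal g.toRingHom rfl
    letI : Algebra E L := κ.toAlgebra
    have hκ : ∀ z : C, algebraMap E L (algebraMap C E z) = algebraMap C' L (g z) := fun z =>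
      Ideal.ResidueField.map_algebraMap ..
    letI : Algebra A E := ((algebraMap C E).comp (algebraMap A C)).toAlgebra
    letI : Algebra A L := ((algebraMap C' L).comp (algebraMap A C')).toAlgebra
    haveI : IsScalarTower A E L := .of_algebraMap_eq fun a => by
      show algebraMap C' L (algebraMap A C' a) = algebraMap E L (algebraMap C E (algebraMap A C a))
      rw [hκ, g.commutes]
    haveI : FiniteDimensional E L := Module.finite_of_finrank_pos
      (Nat.pos_of_dvd_of_pos (hdeg q) hd)
    have hrange : Subfield.closure (Set.range ((algebraMap C' L).comp (algebraMap C C'))) ≤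
        (algebraMap E L).fieldRange := by
      rw [Subfield.closure_le]
      rintro _ ⟨z, rfl⟩
      exact ⟨algebraMap C E z, hκ z⟩
    haveI : IsPurelyInseparable E L := by
      rw [isPurelyInseparable_iff_pow_mem E (ringExpChar E)]
      intro z
      haveI : ExpChar L (ringExpChar E) := expChar_of_injective_algebraMap (algebraMap E L).injective _
      obtain ⟨a, b, hb, rfl⟩ := IsFractionRing.div_surjective (A := C' ⧸ q.asIdeal) z
      obtain ⟨a, rfl⟩ := Ideal.Quotient.mk_surjective a
      obtain ⟨b, rfl⟩ := Ideal.Quotient.mk_surjective b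
      obtain ⟨q₁, n₁, he₁, h₁⟩ := H17.UnivHomeoAlg.exists_pow_mem hu (algebraMap C' L) a
      obtain ⟨q₂, n₂, he₂, h₂⟩ := H17.UnivHomeoAlg.exists_pow_mem hu (algebraMap C' L) b
      obtain rfl := ExpChar.eq he₁ (inferInstance : ExpChar L (ringExpChar E))
      obtain rfl := ExpChar.eq he₂ (inferInstance : ExpChar L (ringExpChar E))
      refine ⟨n₁ + n₂, ?_⟩
      rw [div_pow]
      have e₁ := pow_mem (hrange h₁) ((ringExpChar E) ^ n₂)
      have e₂ := pow_mem (hrange h₂) ((ringExpChar E) ^ n₁)
      rw [← pow_mul, ← pow_add] at e₁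
      rw [← pow_mul, ← pow_add, add_comm n₂ n₁] at e₂
      exact (show _ ∈ (algebraMap E L).fieldRange from div_mem e₁ e₂)
    let φ' : B →ₐ[A] L := { toRingHom := (algebraMap C' L).comp φ.toRingHom
                            commutes' := fun a => congrArg (algebraMap C' L) (φ.commutes a) }
    obtain ⟨e, he⟩ := lift_mem_range (E := E) (hdeg q) φ' x hx
    obtain ⟨a, s, -, rfl⟩ := IsFractionRing.div_surjective (A := C ⧸ p.asIdeal) e
    obtain ⟨a, rfl⟩ := Ideal.Quotient.mk_surjective a
    obtain ⟨s, rfl⟩ := Ideal.Quotient.mk_surjective s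
    refine ⟨a, s, ?_⟩
    rw [map_div₀] at he
    exact he.symm.trans (congrArg₂ (· / ·) (hκ a) (hκ s))
  let B' : Subalgebra C C' := Algebra.adjoin C {c'}
  haveI : Module.Finite C B' := Module.Finite.iff_fg.mpr
    ((Algebra.IsIntegral.isIntegral (R := C) c').fg_adjoin_singleton)
  haveI : _root_.IsReduced B' := isReduced_of_injective B'.val Subtype.val_injective
  obtain ⟨a, ha⟩ := H18Subint.bijective_of_generic_step (B := B') hC
    (fun a b h => hinj (congrArg Subtype.val h)) (H17.UnivHomeoAlg.uq_subalgebra B' hu)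
    (fun p hp q hq hqp _ b => by
      obtain ⟨Q, hQ, hQq⟩ : ∃ Q : Ideal C', Q.IsPrime ∧ Q.comap (algebraMap B' C') = q := by
        haveI : Algebra.IsIntegral B' C' := Algebra.IsIntegral.tower_top C
        obtain ⟨Q, -, hQ, hQq⟩ := Ideal.exists_ideal_over_prime_of_isIntegral (R := B') (S := C') q ⊥ (by
          rw [Ideal.comap_bot_of_injective _ Subtype.val_injective]; exact bot_le)
        exact ⟨Q, hQ, hQq⟩
      haveI := hQ
      let χ := algebraMap C' Q.ResidueField
      let S : Subalgebra C C' :=
        { carrier := {z | χ z ∈ Subfield.closure (Set.range (χ.comp (algebraMap C C')))}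
          mul_mem' := fun {u v} hu hv => by
            show χ (u * v) ∈ Subfield.closure (Set.range (χ.comp (algebraMap C C')))
            rw [map_mul]; exact mul_mem hu hv
          one_mem' := by
            show χ 1 ∈ Subfield.closure (Set.range (χ.comp (algebraMap C C')))
            rw [map_one]; exact one_mem _
          add_mem' := fun {u v} hu hv => by
            show χ (u + v) ∈ Subfield.closure (Set.range (χ.comp (algebraMap C C')))
            rw [map_add]; exact add_mem hu hv
          zero_mem' := by
            show χ 0 ∈ Subfield.closure (Set.range (χ.comp (algebraMap C C')))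
            rw [map_zero]; exact zero_mem _
          algebraMap_mem' := fun z => Subfield.subset_closure ⟨z, rfl⟩ }
      have hc : c' ∈ S := by
        obtain ⟨a, s, h⟩ := hval ⟨Q, hQ⟩
        exact (H17.UnivHomeoAlg.mem_closure_range_iff _ _).mpr ⟨a, s, h⟩
      have hb : (b : C') ∈ S := Algebra.adjoin_le (Set.singleton_subset_iff.mpr hc) b.2
      obtain ⟨a, s, h⟩ := (H17.UnivHomeoAlg.mem_closure_range_iff _ _).mp hb
      obtain ⟨t, ht, r, hr⟩ := H18Subint.exists_of_eq_div (A := C) (B := C') p Q
        (by rw [← hqp, ← hQq, Ideal.comap_comap]; rfl) h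
      refine ⟨t, ht, r, ?_⟩
      rw [← hQq, Ideal.mem_comap, map_sub, map_mul]
      exact hr) ⟨c', Algebra.self_mem_adjoin_singleton C c'⟩
  exact ⟨a, congrArg Subtype.val ha⟩

end Groth.Agent.H7SymTen
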